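import Cfsg.Agent.H56.J4.E.Main

/-!
The group generated by the conjugates of `hh` under `⟨x, y⟩`: order at most 2048, and the bound
`2048 * 244823040` for `⟨x, y, hh⟩`.
-/

set_option autoImplicit false
set_option maxRecDepth 100000

namespace Cfsg.Agent.H56.J4.E

open Cfsg Cfsg.Agent.Golay Up

/-- the involution at a letter of a configuration -/
noncomputable def eC (P : List ℕ) (l : ℕ) : J := hp (pt' (P.getD l 0))

/-- the relators of a configuration come from instances -/
noncomputable def cfgOK (P : List ℕ) (L C : List Ins) (R : List (List ℕ)) : Bool :=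
  (L.all fun x => insOK srcLine x) && (C.all fun x => insOK src300 x) &&
    R.all fun r => r.isEmpty || (Nat.beq r.length 2 && Nat.beq (r.getD 0 0) (r.getD 1 0)) ||
      (L.any fun x => r.map (fun l => P.getD l 0) == x.ids.map fun p => p.1) ||
      (C.any fun x => r.map (fun l => P.getD l 0) ==
        (x.ids.map fun p => p.1) ++ x.ids.map fun p => p.1)

theorem cfg300_rels : cfgOK cfg300P cfg300L cfg300C cfg300R = true := by decide +kernel
theorem cfg204_rels : cfgOK cfg204P cfg204L cfg204C cfg204R = true := by decide +kernel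

theorem srcs_ok : srcOK srcLine = true ∧ srcOK src300 = true ∧ srcOK src204 = true ∧
    srcOK src212 = true := by
  have h := src_ok
  simp only [Bool.and_eq_true] at h
  exact ⟨h.1.1.1, h.1.1.2, h.1.2, h.2⟩

theorem line_ins {x : Ins} (h : insOK srcLine x = true) :
    (x.ids.map fun p => hp (pt' p.1)).prod = 1 := by
  rw [ins_sound srcs_ok.1 h,
    show srcLine.map (fun s => cj x.c (hp s.1)) =
      (srcLine.map fun s => s.1).map (fun a => cj x.c (hp a)) by rw [List.map_map]; rfl,
    line_src]
  simp only [List.map_cons, List.map_nil, List.prod_cons, List.prod_nil, mul_one]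
  rw [← cj_mul, ← cj_mul, ← mul_assoc, line_one, cj_one]

theorem pair_ins {s : List (ℕ × ℕ)} (hs : srcOK s = true) {a b : ℕ}
    (he : s.map (fun q => q.1) = [a, b]) (hab : Commute (hp a) (hp b)) {x : Ins}
    (h : insOK s x = true) :
    ((x.ids.map fun p => hp (pt' p.1)) ++ x.ids.map fun p => hp (pt' p.1)).prod = 1 ∧
      ∀ p q, x.ids.map (fun p => p.1) = [p, q] → Commute (hp (pt' p)) (hp (pt' q)) := by
  have e : x.ids.map (fun p => hp (pt' p.1)) = [cj x.c (hp a), cj x.c (hp b)] := by
    rw [ins_sound hs h, show s.map (fun q => cj x.c (hp q.1)) =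
      (s.map fun q => q.1).map (fun a => cj x.c (hp a)) by rw [List.map_map]; rfl, he]
    rfl
  have hc : cj x.c (hp a) * cj x.c (hp b) = cj x.c (hp b) * cj x.c (hp a) := by
    rw [← cj_mul, ← cj_mul, hab.eq]
  refine ⟨?_, fun p q hpq => ?_⟩
  · rw [e]
    simp only [List.cons_append, List.nil_append, List.prod_cons, List.prod_nil, mul_one]
    calc _ = cj x.c (hp a) * cj x.c (hp b) * (cj x.c (hp a) * cj x.c (hp b)) := by group
      _ = cj x.c (hp b) * (cj x.c (hp a) * cj x.c (hp a)) * cj x.c (hp b) := by
          nth_rw 1 [hc]; group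
      _ = 1 := by rw [← cj_mul x.c (hp a), hp_sq, cj_one, mul_one, ← cj_mul, hp_sq, cj_one]
  · have e' : x.ids.map (fun p => hp (pt' p.1)) = [hp (pt' p), hp (pt' q)] := by
      rw [show x.ids.map (fun p => hp (pt' p.1)) =
        (x.ids.map fun p => p.1).map (fun p => hp (pt' p)) by rw [List.map_map]; rfl, hpq]
      rfl
    rw [e] at e'
    injection e' with e1 e2
    injection e2 with e2 _
    show hp (pt' p) * hp (pt' q) = hp (pt' q) * hp (pt' p)
    rw [← e1, ← e2]
    exact hc

theorem comm212 : Commute (hp idN) (hp Line.g1T) := by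
  have h := line_one
  have hc : hp idN * hp Line.g1T = hp Line.g2T :=
    (eq_inv_of_mul_eq_one_left h).trans (eq_inv_of_mul_eq_one_left (hp_sq _)).symm
  show hp idN * hp Line.g1T = hp Line.g1T * hp idN
  calc hp idN * hp Line.g1T = (hp idN * hp Line.g1T)⁻¹ := by
        rw [hc]; exact eq_inv_of_mul_eq_one_left (hp_sq _)
    _ = _ := by
        rw [mul_inv_rev, ← eq_inv_of_mul_eq_one_left (hp_sq _),
          ← eq_inv_of_mul_eq_one_left (hp_sq _)]

theorem cfg_queries {P : List ℕ} {L C : List Ins} {R : List (List ℕ)}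
    (h : cfgOK P L C R = true) {a b : ℕ} (he : src300.map (fun q => q.1) = [a, b])
    (hab : C = [] ∨ Commute (hp a) (hp b)) : ∀ r ∈ R, tVal (eC P) r = 1 := by
  simp only [cfgOK, Bool.and_eq_true, List.all_eq_true, Bool.or_eq_true, List.any_eq_true] at h
  obtain ⟨⟨hL, hC⟩, hR⟩ := h
  intro r hr
  have key : ∀ ps : List ℕ, r.map (fun l => P.getD l 0) = ps →
      tVal (eC P) r = (ps.map fun p => hp (pt' p)).prod := by
    intro ps hps
    rw [← hps, List.map_map]; rfl
  rcases hR r hr with ((h1 | h1) | ⟨x, hx, h1⟩) | ⟨x, hx, h1⟩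
  · rw [List.isEmpty_iff] at h1; subst h1; rfl
  · simp only [Nat.beq_eq] at h1
    obtain ⟨p, q, rfl⟩ := List.length_eq_two.1 h1.1
    have : p = q := by simpa using h1.2
    subst this
    simpa [tVal, eC] using hp_sq _
  · rw [key _ (eq_of_beq h1), List.map_map]
    exact line_ins (hL x hx)
  · rcases hab with hab | hab
    · rw [hab] at hx; simp at hx
    · rw [key _ (eq_of_beq h1), List.map_append, List.map_map]
      exact (pair_ins srcs_ok.2.1 he hab (hC x hx)).1

theorem eC_sq (P : List ℕ) : ∀ l, eC P l * eC P l = 1 := fun _ => hp_sq _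

theorem comm_of_query {P : List ℕ} {q : List ℕ × List ℕ × List ℕ × List ℕ} {a b i j : ℕ}
    (hq : q.1 = [i, j] ∧ q.2.1 = [j, i]) (h : tVal (eC P) q.1 = tVal (eC P) q.2.1)
    (ha : pt' (P.getD i 0) = a) (hb : pt' (P.getD j 0) = b) : Commute (hp a) (hp b) := by
  rw [hq.1, hq.2] at h
  rw [← ha, ← hb]
  simpa [tVal, eC, Commute, SemiconjBy] using h

/-- the first table of a list of sources -/
def sA (s : List (ℕ × ℕ)) : ℕ := (s.getD 0 (0, 0)).1
/-- the second table of a list of sources -/
def sB (s : List (ℕ × ℕ)) : ℕ := (s.getD 1 (0, 0)).1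

theorem comm300 : Commute (hp (sA src300)) (hp (sB src300)) := by
  have hq := tCert_sound (eC_sq cfg300P)
    (cfg_queries cfg300_rels (a := sA src300) (b := sB src300) rfl (Or.inl rfl)) cfg300_ok
    (cfg300Q.getD 0 ([], [], [], [])) (by simp [cfg300Q])
  refine comm_of_query (P := cfg300P) (i := (cfg300Q.getD 0 ([], [], [], [])).1.getD 0 0)
    (j := (cfg300Q.getD 0 ([], [], [], [])).1.getD 1 0) ?_ hq ?_ ?_
  · constructor <;> decide +kernel
  · decide +kernel
  · decide +kernel

theorem comm204 : Commute (hp (sA src204)) (hp (sB src204)) := by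
  have hq := tCert_sound (eC_sq cfg204P)
    (cfg_queries cfg204_rels (a := sA src300) (b := sB src300) rfl (Or.inr comm300)) cfg204_ok
    (cfg204Q.getD 0 ([], [], [], [])) (by simp [cfg204Q])
  refine comm_of_query (P := cfg204P) (i := (cfg204Q.getD 0 ([], [], [], [])).1.getD 0 0)
    (j := (cfg204Q.getD 0 ([], [], [], [])).1.getD 1 0) ?_ hq ?_ ?_
  · constructor <;> decide +kernel
  · decide +kernel
  · decide +kernel

/-- every pair of basis points occurs in an instance -/
noncomputable def pairsOK : Bool :=
  (pair300.all fun x => insOK src300 x) && (pair204.all fun x => insOK src204 x) &&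
    (pair212.all fun x => insOK src212 x) &&
    (List.range 11).all fun i => (List.range 11).all fun j =>
      (pair300 ++ pair204 ++ pair212).any (fun x => x.ids.map (fun p => p.1) == [i, j]) ||
        !(Nat.blt i j)

theorem pairs_ok : pairsOK = true := by decide +kernel

/-- the generators of the group -/
noncomputable def bs : List J := (List.range 11).map fun k => hp (pt' k)

theorem bs_comm : ∀ i < 11, ∀ j < 11, Commute (hp (pt' i)) (hp (pt' j)) := by
  have key : ∀ i j, i < j → j < 11 → Commute (hp (pt' i)) (hp (pt' j)) := by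
    intro i j hij hj
    have h := pairs_ok
    simp only [pairsOK, Bool.and_eq_true, List.all_eq_true, List.mem_range, Bool.or_eq_true,
      List.any_eq_true, List.mem_append, beq_iff_eq, Bool.not_eq_true'] at h
    obtain ⟨⟨⟨h1, h2⟩, h3⟩, h4⟩ := h
    rcases h4 i (by omega) j hj with ⟨x, hx, he⟩ | hn
    · rcases hx with (hx | hx) | hx
      · exact (pair_ins srcs_ok.2.1 (a := sA src300) (b := sB src300) rfl comm300 (h1 x hx)).2 i j he
      · exact (pair_ins srcs_ok.2.2.1 (a := sA src204) (b := sB src204) rfl comm204 (h2 x hx)).2 i j he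
      · exact (pair_ins srcs_ok.2.2.2 (a := sA src212) (b := sB src212) rfl
          (by rw [show sA src212 = idN by decide +kernel, show sB src212 = Line.g1T by decide +kernel]
              exact comm212) (h3 x hx)).2 i j he
    · rw [Nat.blt_eq.mpr hij] at hn
      exact Bool.noConfusion hn
  intro i hi j hj
  rcases lt_trichotomy i j with h | h | h
  · exact key i j h hj
  · rw [h]
  · exact (key j i h hi).symm

/-- commuting involutions generate a group of order at most a power of two -/
theorem card_closure_le {G : Type*} [Group G] : ∀ l : List G, (∀ a ∈ l, a * a = 1) →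
    (∀ a ∈ l, ∀ b ∈ l, Commute a b) →
    Finite (Subgroup.closure {g | g ∈ l}) ∧ Nat.card (Subgroup.closure {g | g ∈ l}) ≤ 2 ^ l.length := by
  intro l
  induction l with
  | nil =>
    intro _ _
    have : Subgroup.closure {g : G | g ∈ ([] : List G)} = ⊥ := by simp
    rw [this]
    exact ⟨inferInstance, le_of_eq Subgroup.card_bot⟩
  | cons a l ih =>
    intro h1 h2
    obtain ⟨hfin, hcard⟩ := ih (fun b hb => h1 b (List.mem_cons_of_mem _ hb))
      (fun b hb c hc => h2 b (List.mem_cons_of_mem _ hb) c (List.mem_cons_of_mem _ hc))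
    let K := Subgroup.closure {g : G | g ∈ l}
    have hca : ∀ k ∈ K, Commute a k := by
      intro k hk
      induction hk using Subgroup.closure_induction with
      | mem b hb => exact h2 a (by simp) b (List.mem_cons_of_mem _ hb)
      | one => exact Commute.one_right a
      | mul x y _ _ hx hy => exact hx.mul_right hy
      | inv x _ hx => exact hx.inv_right
    have ha := h1 a (by simp)
    let f : Bool × K → G := fun p => (if p.1 then a else 1) * p.2
    have hsub : (Subgroup.closure {g : G | g ∈ a :: l} : Set G) ⊆ Set.range f := by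
      intro g hg
      induction hg using Subgroup.closure_induction with
      | mem b hb =>
        rcases List.mem_cons.1 hb with rfl | hb
        · exact ⟨(true, 1), by simp [f]⟩
        · exact ⟨(false, ⟨b, Subgroup.subset_closure hb⟩), by simp [f]⟩
      | one => exact ⟨(false, 1), by simp [f]⟩
      | mul x y _ _ hx hy =>
        obtain ⟨⟨s, k⟩, rfl⟩ := hx
        obtain ⟨⟨t, k'⟩, rfl⟩ := hy
        refine ⟨(s ^^ t, k * k'), ?_⟩
        have hc := (hca k k.2).eq
        simp only [f, Subgroup.coe_mul]
        cases s <;> cases t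
        · simp
        · simp only [Bool.false_xor, if_true, Bool.false_eq_true, if_false, one_mul, ← mul_assoc, hc]
        · simp [mul_assoc]
        · simp only [Bool.true_xor, Bool.not_true, Bool.false_eq_true, if_false, if_true, one_mul]
          calc _ = (a * a) * (k * k' : G) := by rw [ha, one_mul]
            _ = a * ((a * k) * k') := by group
            _ = a * (((k : G) * a) * k') := congrArg (fun z : G => a * (z * k')) hc
            _ = a * k * (a * k') := by group
      | inv x _ hx =>
        obtain ⟨⟨s, k⟩, rfl⟩ := hx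
        refine ⟨(s, k⁻¹), ?_⟩
        simp only [f, Subgroup.coe_inv, mul_inv_rev]
        cases s
        · simp
        · simp only [if_true]
          rw [(hca (k : G)⁻¹ (K.inv_mem k.2)).eq, ← eq_inv_of_mul_eq_one_left ha]
    have hfin' : Finite K := hfin
    have hr := Set.finite_range f
    refine ⟨(hr.subset hsub).to_subtype, ?_⟩
    calc Nat.card (Subgroup.closure {g : G | g ∈ a :: l}) ≤ Nat.card (Set.range f) :=
          Nat.card_mono hr hsub
      _ ≤ Nat.card (Bool × K) := Nat.card_le_card_of_surjective (Set.rangeFactorization f)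
          Set.rangeFactorization_surjective
      _ ≤ 2 ^ (l.length + 1) := by
          rw [Nat.card_prod, Nat.card_eq_fintype_card, Fintype.card_bool, pow_succ, mul_comm]
          exact Nat.mul_le_mul_right 2 hcard

/-- the group generated by the eleven conjugates -/
noncomputable def EE : Subgroup J := Subgroup.closure {g | g ∈ bs}

theorem bs_spec : (∀ a ∈ bs, a * a = 1) ∧ ∀ a ∈ bs, ∀ b ∈ bs, Commute a b := by
  constructor
  · intro a ha
    obtain ⟨k, -, rfl⟩ := List.mem_map.1 ha
    exact hp_sq _
  · intro a ha b hb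
    obtain ⟨i, hi, rfl⟩ := List.mem_map.1 ha
    obtain ⟨j, hj, rfl⟩ := List.mem_map.1 hb
    exact bs_comm i (List.mem_range.1 hi) j (List.mem_range.1 hj)

theorem EE_card : Finite EE ∧ Nat.card EE ≤ 2048 := by
  obtain ⟨h1, h2⟩ := card_closure_le bs bs_spec.1 bs_spec.2
  exact ⟨h1, h2.trans (by rw [bs, List.length_map, List.length_range]; norm_num)⟩

/-- closure steps -/
noncomputable def cloOK : ℕ → List Ins → Bool
  | cur, [] => Nat.beq cur nClo
  | cur, x :: l => insOK srcLine x &&
      (match x.ids.map (fun p => p.1) with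
      | [a, b, c] => (Nat.beq a cur && Nat.blt b cur && Nat.blt c cur) ||
          (Nat.blt a cur && Nat.beq b cur && Nat.blt c cur) ||
          (Nat.blt a cur && Nat.blt b cur && Nat.beq c cur)
      | _ => false) && cloOK (cur + 1) l

theorem clo_ok : cloOK 11 cloL = true := by decide +kernel

theorem clo_sound : ∀ (l : List Ins) (cur : ℕ), cloOK cur l = true →
    (∀ k < cur, hp (pt' k) ∈ EE) → ∀ k < nClo, hp (pt' k) ∈ EE := by
  intro l
  induction l with
  | nil => intro cur h hk k hlt; rw [cloOK, Nat.beq_eq] at h; exact hk k (h ▸ hlt)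
  | cons x l ih =>
    intro cur h hk
    simp only [cloOK, Bool.and_eq_true] at h
    obtain ⟨⟨hx, hm⟩, hrest⟩ := h
    refine ih (cur + 1) hrest (fun k hk' => ?_)
    rcases Nat.lt_succ_iff_lt_or_eq.1 hk' with hk' | rfl
    · exact hk k hk'
    have hl := line_ins hx
    rw [show x.ids.map (fun p => hp (pt' p.1)) =
      (x.ids.map fun p => p.1).map (fun p => hp (pt' p)) by rw [List.map_map]; rfl] at hl
    split at hm
    case h_2 => exact absurd hm (by simp)
    case h_1 a b c he =>
      rw [he] at hl
      simp only [List.map_cons, List.map_nil, List.prod_cons, List.prod_nil, mul_one] at hl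
      simp only [Bool.or_eq_true, Bool.and_eq_true, Nat.beq_eq, Nat.blt_eq] at hm
      rcases hm with (⟨⟨rfl, hb⟩, hc⟩ | ⟨⟨ha, rfl⟩, hc⟩) | ⟨⟨ha, hb⟩, rfl⟩
      · rw [eq_inv_of_mul_eq_one_left hl]
        exact EE.inv_mem (EE.mul_mem (hk b hb) (hk c hc))
      · have e : hp (pt' b) = (hp (pt' a))⁻¹ * (hp (pt' c))⁻¹ := by
          calc hp (pt' b) = (hp (pt' a))⁻¹ * (hp (pt' a) * (hp (pt' b) * hp (pt' c))) *
                (hp (pt' c))⁻¹ := by group
            _ = _ := by rw [hl, mul_one]
        rw [e]
        exact EE.mul_mem (EE.inv_mem (hk a ha)) (EE.inv_mem (hk c hc))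
      · have e : hp (pt' c) = (hp (pt' a) * hp (pt' b))⁻¹ :=
          eq_inv_of_mul_eq_one_right (by rw [mul_assoc]; exact hl)
        rw [e]
        exact EE.inv_mem (EE.mul_mem (hk a ha) (hk b hb))

theorem pt_mem : ∀ k < nClo, hp (pt' k) ∈ EE := by
  refine clo_sound cloL 11 clo_ok fun k hk => Subgroup.subset_closure ?_
  exact List.mem_map.2 ⟨k, List.mem_range.2 hk, rfl⟩

/-- the images of the basis points and of the base point -/
noncomputable def imgOK : Bool :=
  (imgB.all fun q => Nat.blt q.2.1 nClo &&
    bif Nat.blt q.1 11 then idsOK xTi [(pt' q.1, pti q.1)] [q.2]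
    else idsOK yTi [(pt' (q.1 - 11), pti (q.1 - 11))] [q.2]) &&
  ((List.range 22).all fun k => imgB.any fun q => Nat.beq q.1 k) &&
  Nat.blt z0.1 nClo && idsOK idN [(idN, idN)] [z0] &&
  (List.range 11).all fun k => inM24 (pt' k) && invOK (pt' k) (pti k)

theorem img_ok : imgOK = true := by decide +kernel

theorem EE_facts : hh ∈ EE ∧ (∀ a ∈ bs, cj xT a ∈ EE) ∧ (∀ a ∈ bs, cj yT a ∈ EE) := by
  have h := img_ok
  simp only [imgOK, Bool.and_eq_true, List.all_eq_true, List.mem_range, List.any_eq_true,
    Nat.blt_eq, Nat.beq_eq] at h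
  obtain ⟨⟨⟨⟨hi, hall⟩, hz⟩, hz'⟩, hpts⟩ := h
  refine ⟨?_, ?_, ?_⟩
  · have e := ids_sound val_idN (by decide +kernel) [(idN, idN)] [z0]
      (by decide +kernel) hz'
    simp only [List.map_cons, List.map_nil, List.cons.injEq, and_true] at e
    rw [cj, pv_idN, inv_one, one_mul, mul_one, hp_idN] at e
    rw [← e]
    exact pt_mem _ hz
  all_goals
    intro a ha
    obtain ⟨k, hk, rfl⟩ := List.mem_map.1 ha
    rw [List.mem_range] at hk
    have hs : srcOK [(pt' k, pti k)] = true := by
      simp only [srcOK, List.all_cons, List.all_nil, Bool.and_true, Bool.and_eq_true]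
      exact hpts k hk
  · obtain ⟨q, hq, hqk⟩ := hall k (by omega)
    subst hqk
    obtain ⟨hz1, hids⟩ := hi q hq
    rw [Nat.blt_eq.mpr hk, cond_true] at hids
    have e := ids_sound val_xT inv_xT _ _ hs hids
    simp only [List.map_cons, List.map_nil, List.cons.injEq, and_true] at e
    rw [← e]
    exact pt_mem _ hz1
  · obtain ⟨q, hq, hqk⟩ := hall (k + 11) (by omega)
    obtain ⟨hz1, hids⟩ := hi q hq
    rw [show Nat.blt q.1 11 = false from Bool.eq_false_iff.2 fun h => by
      rw [Nat.blt_eq] at h; omega, cond_false, show q.1 - 11 = k by omega] at hids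
    have e := ids_sound val_yT inv_yT _ _ hs hids
    simp only [List.map_cons, List.map_nil, List.cons.injEq, and_true] at e
    rw [← e]
    exact pt_mem _ hz1

theorem range_normalizes : ∀ g ∈ phi.range, ∀ a ∈ EE, g⁻¹ * a * g ∈ EE := by
  have hfin := EE_card.1
  have key : ∀ (g : J), (∀ a ∈ bs, g⁻¹ * a * g ∈ EE) → ∀ a ∈ EE, g⁻¹ * a * g ∈ EE := by
    intro g hg a ha
    induction ha using Subgroup.closure_induction with
    | mem b hb => exact hg b hb
    | one => simpa using EE.one_mem
    | mul x y _ _ hx hy =>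
      have := EE.mul_mem hx hy
      convert this using 1; group
    | inv x _ hx =>
      have := EE.inv_mem hx
      convert this using 1; group
  intro g hg
  rw [phi_range] at hg
  induction hg using Subgroup.closure_induction with
  | mem b hb =>
    rcases hb with rfl | hb
    · refine key _ fun a ha => ?_
      have := EE_facts.2.1 a ha
      rwa [cj, pv_eq val_xT, show (⟨gv xT, gv_mem val_xT⟩ : M24) = gX from rfl, phi_gX] at this
    · rw [Set.mem_singleton_iff] at hb
      subst hb
      refine key _ fun a ha => ?_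
      have := EE_facts.2.2 a ha
      rwa [cj, pv_eq val_yT, show (⟨gv yT, gv_mem val_yT⟩ : M24) = gY from rfl, phi_gY] at this
  | one => intro a ha; simpa using ha
  | mul x y _ _ hx hy =>
    intro a ha
    have := hy _ (hx a ha)
    convert this using 1; group
  | inv x _ hx =>
    intro a ha
    have hinj : Function.Injective (fun e : EE => (⟨x⁻¹ * e * x, hx e e.2⟩ : EE)) := by
      intro e f hef
      apply Subtype.ext
      have := congrArg Subtype.val hef
      simpa using this
    obtain ⟨e, he⟩ := (Finite.injective_iff_surjective.1 hinj) ⟨a, ha⟩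
    have he' : x⁻¹ * (e : J) * x = a := congrArg Subtype.val he
    rw [← he']
    convert e.2 using 1
    group

/-- `⟨x, y, h⟩` is finite of order at most `2048 * |M24|` -/
theorem HH_card_le : Finite HH ∧ Nat.card HH ≤ 2048 * 244823040 := by
  have hEfin := EE_card.1
  have hMfin : Finite phi.range := Finite.of_surjective _ phi.rangeRestrict_surjective
  let f : EE × phi.range → J := fun p => p.1 * p.2
  have hmul : ∀ a b, a ∈ Set.range f → b ∈ Set.range f → a * b ∈ Set.range f := by
    rintro _ _ ⟨⟨e, m⟩, rfl⟩ ⟨⟨e', m'⟩, rfl⟩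
    refine ⟨(⟨e * ((m : J) * e' * (m : J)⁻¹), EE.mul_mem e.2 ?_⟩, m * m'), ?_⟩
    · have := range_normalizes (m : J)⁻¹ (phi.range.inv_mem m.2) e' e'.2
      rwa [inv_inv] at this
    · simp only [f, Subgroup.coe_mul]; group
  have hsub : (HH : Set J) ⊆ Set.range f := by
    intro g hg
    unfold HH at hg
    induction hg using Subgroup.closure_induction with
    | mem b hb =>
      rcases hb with rfl | rfl | hb
      · exact ⟨(1, ⟨jx, ⟨gX, phi_gX⟩⟩), by simp [f]⟩
      · exact ⟨(1, ⟨jy, ⟨gY, phi_gY⟩⟩), by simp [f]⟩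
      · rw [Set.mem_singleton_iff] at hb
        subst hb
        exact ⟨(⟨hh, EE_facts.1⟩, 1), by simp [f]⟩
    | one => exact ⟨(1, 1), by simp [f]⟩
    | mul x y _ _ hx hy => exact hmul x y hx hy
    | inv x _ hx =>
      obtain ⟨⟨e, m⟩, rfl⟩ := hx
      refine ⟨(⟨(m : J)⁻¹ * (e : J)⁻¹ * m, range_normalizes m m.2 _ (EE.inv_mem e.2)⟩, m⁻¹), ?_⟩
      simp only [f, Subgroup.coe_inv, mul_inv_rev]; group
  have hr := Set.finite_range f
  refine ⟨(hr.subset hsub).to_subtype, ?_⟩
  calc Nat.card HH ≤ Nat.card (Set.range f) := Nat.card_mono hr hsub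
    _ ≤ Nat.card (EE × phi.range) :=
        Nat.card_le_card_of_surjective (Set.rangeFactorization f) Set.rangeFactorization_surjective
    _ ≤ 2048 * 244823040 := by
        rw [Nat.card_prod]
        refine Nat.mul_le_mul EE_card.2 ?_
        rw [← card_M24]
        exact Nat.card_le_card_of_surjective _ phi.rangeRestrict_surjective

theorem finite_J : Finite J := by
  have h1 := HH_card_le.1
  have h2 : HH.FiniteIndex := ⟨HH_index_le.1⟩
  have hq : Finite (J ⧸ HH) := Subgroup.finite_quotient_of_finiteIndex
  exact Finite.of_equiv _ (Subgroup.groupEquivQuotientProdSubgroup (s := HH)).symm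

end Cfsg.Agent.H56.J4.E
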