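import Cfsg.Agent.H56.J4.E.Data
import Cfsg.Agent.H56.J4.Line.Main

/-!
The conjugates of `hh = (y t^v)^3` under `⟨x, y⟩` generate an elementary abelian group of order
at most 2048 normalised by `⟨x, y⟩`.
-/

set_option autoImplicit false
set_option maxRecDepth 100000

namespace Cfsg.Agent.H56.J4.E

open Cfsg Cfsg.Agent.Golay Up
open scoped Pointwise

/-- the conjugate of `hh` by a table -/
noncomputable def hp (g : ℕ) : J := (pv phi g)⁻¹ * hh * pv phi g

/-- the conjugate of an element by a table -/
noncomputable def cj (c : ℕ) (a : J) : J := (pv phi c)⁻¹ * a * pv phi c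

theorem cj_one (c : ℕ) : cj c 1 = 1 := by simp [cj]

theorem cj_mul (c : ℕ) (a b : J) : cj c (a * b) = cj c a * cj c b := by
  simp only [cj]; group

/-- a point -/
def pt' (k : ℕ) : ℕ := ptsL.getD k idN

/-- its inverse -/
def pti (k : ℕ) : ℕ := ptsI.getD k idN

/-- product of stabiliser elements -/
noncomputable def prodT : List ℕ → ℕ
  | [] => idN
  | k :: ks => mulR (esL.getD k idN) (prodT ks)

/-- the stabiliser list is a program over its first two elements -/
noncomputable def slpOK : ℕ → List (ℕ × ℕ) → Bool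
  | _, [] => true
  | n, (a, b) :: ps => Nat.blt a n && Nat.blt b n &&
      Nat.beq (mulR (esL.getD a idN) (esL.getD b idN)) (esL.getD n idN) && slpOK (n + 1) ps

/-- identifications of conjugated points -/
noncomputable def idsOK (ci : ℕ) : List (ℕ × ℕ) → List (ℕ × List ℕ) → Bool
  | [], [] => true
  | s :: ss, p :: ps => Nat.beq (mulR (pt' p.1) (mulR ci s.2)) (prodT p.2) && idsOK ci ss ps
  | _, _ => false

/-- an instance -/
noncomputable def insOK (srcs : List (ℕ × ℕ)) (x : Ins) : Bool :=
  inM24 x.c && invOK x.c x.ci && idsOK x.ci srcs x.ids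

/-- source tables -/
noncomputable def srcOK (srcs : List (ℕ × ℕ)) : Bool :=
  srcs.all fun s => inM24 s.1 && invOK s.1 s.2

theorem slp_ok : slpOK 2 esP = true := by decide +kernel
theorem esP_len : esL.length = 2 + esP.length := by decide +kernel
theorem es01_ok : (inM24 (esL.getD 0 idN) && inM24 (esL.getD 1 idN)) = true := by decide +kernel
theorem pts_ok : (ptsL.all fun g => inM24 g) = true := by decide +kernel
theorem pts_inv : ((List.range ptsL.length).all fun k => invOK (pt' k) (pti k)) = true := by
  decide +kernel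
theorem src_ok : (srcOK srcLine && srcOK src300 && srcOK src204 && srcOK src212) = true := by
  decide +kernel

theorem val_pt (k : ℕ) : Val (pt' k) := by
  unfold pt'
  rw [List.getD_eq_getElem?_getD]
  cases h : ptsL[k]? with
  | none => exact val_idN
  | some g =>
    have := List.all_eq_true.1 pts_ok g (List.mem_of_getElem? h)
    exact ⟨validT_of_inM24 this, mem_M24_of_inM24 this⟩

theorem hp_idN : hp idN = hh := by simp [hp, pv_idN]

/-! ### The sextet group of order 32 -/

/-- the involution of a letter -/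
noncomputable def eq15 (l : ℕ) : J := tK phi jt S0 (gqK.getD l 0)

/-- the relators are relations -/
noncomputable def gqRelOK : Bool :=
  (gqLines.all fun q => inM24 q.1 && invOK q.1 q.2.1 &&
      (((rls.getD 0 ⟨0, [], true⟩).ks.map (imgK q.1)) == q.2.2.map fun l => gqK.getD l 0)) &&
    gqR.all fun r => match r with
      | [] => true
      | [a, b] => Nat.beq a b
      | _ => gqLines.any fun q => q.2.2 == r

theorem gqRel_ok : gqRelOK = true := by decide +kernel

theorem r1_rel : Val idN ∧
    tP phi jt S0 (rls.getD 0 ⟨0, [], true⟩).ks = 1 := by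
  obtain ⟨-, h⟩ := rels_ok (rls.getD 0 ⟨0, [], true⟩) (by simp [rls])
  rw [show (rls.getD 0 ⟨0, [], true⟩).glob = true from rfl, if_pos rfl,
    show (rls.getD 0 ⟨0, [], true⟩).pi = idN by decide +kernel, pv_idN, one_mul] at h
  exact ⟨val_idN, h⟩

theorem gq_rels : ∀ r ∈ gqR, tVal eq15 r = 1 := by
  intro r hr
  have h := gqRel_ok
  simp only [gqRelOK, Bool.and_eq_true, List.all_eq_true] at h
  obtain ⟨hl, hR⟩ := h
  have hline : ∀ q ∈ gqLines, tVal eq15 q.2.2 = 1 := by
    intro q hq
    obtain ⟨⟨h1, h2⟩, h3⟩ := hl q hq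
    have hc : Val q.1 := ⟨validT_of_inM24 h1, mem_M24_of_inM24 h1⟩
    have e : tVal eq15 q.2.2 = tP phi jt S0 (q.2.2.map fun l => gqK.getD l 0) := by
      simp only [tVal, tP, List.map_map]; rfl
    rw [e, ← eq_of_beq h3, tP_conj cen hc, r1_rel.2, mul_one, inv_mul_cancel]
  have := hR r hr
  match r, this with
  | [], _ => rfl
  | [a, b], h' =>
    rw [Nat.beq_eq] at h'
    subst h'
    simpa [tVal, eq15, tK] using tau_sq cen _
  | [a], h' =>
    simp only [List.any_eq_true] at h'
    obtain ⟨q, hq, he⟩ := h'
    rw [← eq_of_beq he]; exact hline q hq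
  | a :: b :: c :: l, h' =>
    simp only [List.any_eq_true] at h'
    obtain ⟨q, hq, he⟩ := h'
    rw [← eq_of_beq he]; exact hline q hq

theorem gq_queries : ∀ q ∈ gqQ, tVal eq15 q.1 = tVal eq15 q.2.1 :=
  tCert_sound (fun _ => tau_sq cen _) gq_rels gq_ok

theorem hh_word : hh = tVal eq15 gqH := by
  rw [Line.hh_eq, show Line.qs.take 3 = gqH.map fun l => gqK.getD l 0 by decide +kernel]
  simp only [tVal, tP, List.map_map]; rfl

theorem hh_sq : hh * hh = 1 := by
  have := gq_queries (gqQ.getD 0 ([], [], [], [])) (by simp [gqQ])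
  rw [show (gqQ.getD 0 ([], [], [], [])).1 = gqH ++ gqH by decide +kernel,
    show (gqQ.getD 0 ([], [], [], [])).2.1 = [] by decide +kernel] at this
  rw [hh_word]
  simpa [tVal, List.map_append, List.prod_append] using this

theorem gen_comm (k : ℕ) (hk : k < 2) : Commute (pv phi (esL.getD k idN)) hh := by
  have hmem : gqQ.getD (k + 1) ([], [], [], []) ∈ gqQ := by
    interval_cases k <;> simp [gqQ]
  have hq := gq_queries _ hmem
  have h1 : (gqQ.getD (k + 1) ([], [], [], [])).1.map (fun l => gqK.getD l 0) =
      (gqH.map fun l => gqK.getD l 0).map (imgK (esL.getD k idN)) := by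
    interval_cases k <;> decide +kernel
  have h2 : (gqQ.getD (k + 1) ([], [], [], [])).2.1 = gqH := by
    interval_cases k <;> decide +kernel
  rw [h2, ← hh_word] at hq
  have hv : Val (esL.getD k idN) := by
    have h := es01_ok
    simp only [Bool.and_eq_true] at h
    interval_cases k
    · exact ⟨validT_of_inM24 h.1, mem_M24_of_inM24 h.1⟩
    · exact ⟨validT_of_inM24 h.2, mem_M24_of_inM24 h.2⟩
  have e : tVal eq15 (gqQ.getD (k + 1) ([], [], [], [])).1 =
      tP phi jt S0 ((gqQ.getD (k + 1) ([], [], [], [])).1.map fun l => gqK.getD l 0) := by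
    simp only [tVal, tP, List.map_map]; rfl
  rw [e, h1, tP_conj cen hv] at hq
  rw [show tP phi jt S0 (gqH.map fun l => gqK.getD l 0) = hh by
    rw [hh_word]; simp only [tVal, tP, List.map_map]; rfl] at hq
  show pv phi (esL.getD k idN) * hh = hh * pv phi (esL.getD k idN)
  calc _ = pv phi (esL.getD k idN) * ((pv phi (esL.getD k idN))⁻¹ * hh * pv phi (esL.getD k idN)) := by
        rw [hq]
    _ = _ := by group

theorem slp_spec : ∀ (ps : List (ℕ × ℕ)) (n : ℕ), slpOK n ps = true →
    (∀ k < n, Val (esL.getD k idN) ∧ Commute (pv phi (esL.getD k idN)) hh) →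
    ∀ k < n + ps.length, Val (esL.getD k idN) ∧ Commute (pv phi (esL.getD k idN)) hh := by
  intro ps
  induction ps with
  | nil => intro n _ h k hk; exact h k (by simpa using hk)
  | cons p ps ih =>
    obtain ⟨a, b⟩ := p
    intro n h hk0 k hk
    simp only [slpOK, Bool.and_eq_true, Nat.blt_eq, Nat.beq_eq] at h
    obtain ⟨⟨⟨ha, hb⟩, he⟩, hrest⟩ := h
    refine ih (n + 1) hrest (fun j hj => ?_) k (by rw [List.length_cons] at hk; omega)
    rcases Nat.lt_succ_iff_lt_or_eq.1 hj with hj | rfl
    · exact hk0 j hj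
    · obtain ⟨v1, c1⟩ := hk0 a ha
      obtain ⟨v2, c2⟩ := hk0 b hb
      rw [← he, pv_mulR v1 v2]
      exact ⟨v1.mul v2, c1.mul_left c2⟩

theorem es_spec (k : ℕ) : Val (esL.getD k idN) ∧ Commute (pv phi (esL.getD k idN)) hh := by
  rcases Nat.lt_or_ge k esL.length with hk | hk
  · refine slp_spec esP 2 slp_ok (fun j hj => ⟨?_, gen_comm j hj⟩) k (esP_len ▸ hk)
    have h := es01_ok
    simp only [Bool.and_eq_true] at h
    interval_cases j
    · exact ⟨validT_of_inM24 h.1, mem_M24_of_inM24 h.1⟩
    · exact ⟨validT_of_inM24 h.2, mem_M24_of_inM24 h.2⟩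
  · rw [List.getD_eq_getElem?_getD, List.getElem?_eq_none hk, Option.getD_none, pv_idN]
    exact ⟨val_idN, Commute.one_left _⟩

theorem prodT_spec : ∀ ks, Val (prodT ks) ∧ Commute (pv phi (prodT ks)) hh := by
  intro ks
  induction ks with
  | nil => exact ⟨val_idN, by rw [prodT, pv_idN]; exact Commute.one_left _⟩
  | cons k ks ih =>
    rw [prodT, pv_mulR (es_spec k).1 ih.1]
    exact ⟨(es_spec k).1.mul ih.1, (es_spec k).2.mul_left ih.2⟩

theorem ids_sound {c ci : ℕ} (hc : Val c) (hci : invOK c ci = true) :
    ∀ (srcs : List (ℕ × ℕ)) (ps : List (ℕ × List ℕ)), srcOK srcs = true →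
      idsOK ci srcs ps = true →
      ps.map (fun p => hp (pt' p.1)) = srcs.map (fun s => cj c (hp s.1)) := by
  intro srcs
  induction srcs with
  | nil => intro ps _ h; cases ps with
    | nil => rfl
    | cons p ps => simp [idsOK] at h
  | cons s srcs ih =>
    intro ps hs h
    cases ps with
    | nil => simp [idsOK] at h
    | cons p ps =>
      simp only [idsOK, Bool.and_eq_true, Nat.beq_eq] at h
      simp only [srcOK, List.all_cons, Bool.and_eq_true] at hs
      obtain ⟨⟨hsM, hsI⟩, hs'⟩ := hs
      rw [List.map_cons, List.map_cons, ih ps hs' h.2]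
      congr 1
      have ha : Val s.1 := ⟨validT_of_inM24 hsM, mem_M24_of_inM24 hsM⟩
      have hai := (Val.of_invOK hsI (gv_mem ha)).2
      have hci' := (Val.of_invOK hci (gv_mem hc)).2
      obtain ⟨hP, hcm⟩ := prodT_spec p.2
      have e := congrArg (pv phi) h.1
      rw [pv_mulR (val_pt _) (hci'.mul hai), pv_mulR hci' hai, pv_inv hc hci, pv_inv ha hsI] at e
      have e' : pv phi (pt' p.1) = pv phi (prodT p.2) * pv phi s.1 * pv phi c := by
        rw [← e]; group
      simp only [hp, cj, e', mul_inv_rev]
      calc _ = (pv phi c)⁻¹ * (pv phi s.1)⁻¹ * ((pv phi (prodT p.2))⁻¹ * (hh * pv phi (prodT p.2))) *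
            pv phi s.1 * pv phi c := by group
        _ = _ := by rw [← hcm.eq]; group

theorem ins_sound {srcs : List (ℕ × ℕ)} (hs : srcOK srcs = true) {x : Ins}
    (h : insOK srcs x = true) :
    x.ids.map (fun p => hp (pt' p.1)) = srcs.map (fun s => cj x.c (hp s.1)) := by
  simp only [insOK, Bool.and_eq_true] at h
  exact ids_sound ⟨validT_of_inM24 h.1.1, mem_M24_of_inM24 h.1.1⟩ h.1.2 srcs x.ids hs h.2

theorem hp_sq (g : ℕ) : hp g * hp g = 1 := by
  calc hp g * hp g = (pv phi g)⁻¹ * (hh * hh) * pv phi g := by simp only [hp]; group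
    _ = 1 := by rw [hh_sq]; group

/-! ### The line is a relation in the group -/

/-- table of candidates for an element commuting with the line stabiliser -/
noncomputable def candT (b : ℕ) : ℕ :=
  mkTbl 24 fun i => (lineW.getD i []).foldl (fun z k => app (lineS.getD k idN) z) b

/-- only the identity commutes -/
noncomputable def centOK : Bool :=
  ((List.range 24).all fun i =>
      Nat.beq ((lineW.getD i []).foldl (fun z k => app (lineS.getD k idN) z) lineO) i) &&
    (List.range 24).all fun b => tblEq (candT b) idTbl || !(inM24 (candT b)) ||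
      lineS.any fun s => !(tblEq (tblMul (candT b) s) (tblMul s (candT b)))

theorem cent_ok : centOK = true := by decide +kernel

/-- instances fixing the three points of the base line -/
noncomputable def lineFixOK : Bool :=
  (List.range lineS.length).all fun k =>
    inM24 (lineS.getD k idN) && invOK (lineS.getD k idN) (lineSi.getD k idN) &&
      ((List.range 3).all fun n =>
        Nat.beq (mulR (srcLine.getD n (0, 0)).1
          (mulR (lineSi.getD k idN) (srcLine.getD n (0, 0)).2)) (prodT ((lineK.getD k []).getD n [])))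

theorem lineFix_ok : lineFixOK = true := by decide +kernel

theorem line_fix {k : ℕ} (hk : k < lineS.length) {n : ℕ} (hn : n < 3) :
    cj (lineS.getD k idN) (hp (srcLine.getD n (0, 0)).1) = hp (srcLine.getD n (0, 0)).1 := by
  have h := lineFix_ok
  simp only [lineFixOK, List.all_eq_true, List.mem_range, Bool.and_eq_true, Nat.beq_eq] at h
  obtain ⟨⟨hM, hI⟩, he⟩ := h k hk
  have hs := src_ok
  simp only [Bool.and_eq_true] at hs
  have hm : srcLine.getD n (0, 0) ∈ srcLine := by
    interval_cases n <;> simp [srcLine]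
  have hsn := List.all_eq_true.1 hs.1.1.1 _ hm
  simp only [Bool.and_eq_true] at hsn
  have hg : Val (srcLine.getD n (0, 0)).1 :=
    ⟨validT_of_inM24 hsn.1, mem_M24_of_inM24 hsn.1⟩
  have hgi := (Val.of_invOK hsn.2 (gv_mem hg)).2
  have hc : Val (lineS.getD k idN) := ⟨validT_of_inM24 hM, mem_M24_of_inM24 hM⟩
  have hci := (Val.of_invOK hI (gv_mem hc)).2
  obtain ⟨-, hcm⟩ := prodT_spec ((lineK.getD k []).getD n [])
  have e := congrArg (pv phi) (he n hn)
  rw [pv_mulR hg (hci.mul hgi), pv_mulR hci hgi, pv_inv hc hI, pv_inv hg hsn.2] at e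
  rw [← e] at hcm
  simp only [cj, hp]
  generalize pv phi (srcLine.getD n (0, 0)).1 = a at hcm ⊢
  generalize pv phi (lineS.getD k idN) = c at hcm ⊢
  calc c⁻¹ * (a⁻¹ * hh * a) * c
      = a⁻¹ * ((a * (c⁻¹ * a⁻¹)) * hh) * (a * c) := by group
    _ = a⁻¹ * (hh * (a * (c⁻¹ * a⁻¹))) * (a * c) := by rw [hcm.eq]
    _ = a⁻¹ * hh * a := by group

theorem line_src : srcLine.map (fun s => s.1) = [idN, Line.g1T, Line.g2T] := by decide +kernel

theorem line_one : hp idN * hp Line.g1T * hp Line.g2T = 1 := by
  obtain ⟨μ, hμ⟩ : hp idN * hp Line.g1T * hp Line.g2T ∈ phi.range := by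
    have := Line.line_mem
    rw [hp_idN]
    simpa only [hp, Line.g1, Line.g2, pv_eq Line.val_g1, pv_eq Line.val_g2] using this
  have hcomm : ∀ k < lineS.length, (μ : Equiv.Perm GolayPt) * mkPerm (lineS.getD k idN) =
      mkPerm (lineS.getD k idN) * μ := by
    intro k hk
    have h := lineFix_ok
    simp only [lineFixOK, List.all_eq_true, List.mem_range, Bool.and_eq_true] at h
    have hM := (h k hk).1.1
    have hc : Val (lineS.getD k idN) := ⟨validT_of_inM24 hM, mem_M24_of_inM24 hM⟩
    have f0 := line_fix hk (n := 0) (by norm_num)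
    have f1 := line_fix hk (n := 1) (by norm_num)
    have f2 := line_fix hk (n := 2) (by norm_num)
    rw [show (srcLine.getD 0 (0, 0)).1 = idN by decide +kernel] at f0
    rw [show (srcLine.getD 1 (0, 0)).1 = Line.g1T by decide +kernel] at f1
    rw [show (srcLine.getD 2 (0, 0)).1 = Line.g2T by decide +kernel] at f2
    have e : cj (lineS.getD k idN) (phi μ) = phi μ := by rw [hμ, cj_mul, cj_mul, f0, f1, f2]
    rw [cj, pv_eq hc, ← map_inv, ← map_mul, ← map_mul] at e
    have e' := congrArg (fun g : M24 => (g : Equiv.Perm GolayPt)) (phi_injective e)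
    simp only [Subgroup.coe_mul, Subgroup.coe_inv, gv, inv_inv] at e'
    calc (μ : Equiv.Perm GolayPt) * mkPerm (lineS.getD k idN)
        = mkPerm (lineS.getD k idN) * (μ : Equiv.Perm GolayPt) * (mkPerm (lineS.getD k idN))⁻¹ *
            mkPerm (lineS.getD k idN) := by rw [e']
      _ = _ := by group
  have hone : μ = 1 := by
    have h := cent_ok
    simp only [centOK, Bool.and_eq_true, List.all_eq_true, List.mem_range, Nat.beq_eq,
      Bool.or_eq_true, List.any_eq_true, Bool.not_eq_true'] at h
    obtain ⟨hw, hb⟩ := h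
    have hval : ∀ k, validT (lineS.getD k idN) = true := by
      intro k
      rcases Nat.lt_or_ge k lineS.length with hk | hk
      · have h := lineFix_ok
        simp only [lineFixOK, List.all_eq_true, List.mem_range, Bool.and_eq_true] at h
        exact validT_of_inM24 (h k hk).1.1
      · rw [List.getD_eq_getElem?_getD, List.getElem?_eq_none hk]; exact idN_spec.1
    have hcomm' : ∀ k, (μ : Equiv.Perm GolayPt) * mkPerm (lineS.getD k idN) =
        mkPerm (lineS.getD k idN) * μ := by
      intro k
      rcases Nat.lt_or_ge k lineS.length with hk | hk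
      · exact hcomm k hk
      · rw [List.getD_eq_getElem?_getD, List.getElem?_eq_none hk, Option.getD_none, idN_spec.2,
          mul_one, one_mul]
    have hfold : ∀ (w : List ℕ) (z : ℕ), z < 24 →
        idx ((μ : Equiv.Perm GolayPt) (pt (w.foldl (fun z k => app (lineS.getD k idN) z) z))) =
          w.foldl (fun z k => app (lineS.getD k idN) z) (idx ((μ : Equiv.Perm GolayPt) (pt z))) := by
      intro w
      induction w with
      | nil => intro z _; rfl
      | cons k w ih =>
        intro z hz
        rw [List.foldl_cons, List.foldl_cons, ih _ ((validT_bijective (hval k)).2 z hz),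
          ← mkPerm_pt (hval k) hz]
        congr 1
        have := congrArg (fun p : Equiv.Perm GolayPt => p (pt z)) (hcomm' k)
        simp only [Equiv.Perm.mul_apply] at this
        rw [this, idx_mkPerm (hval k)]
    let b := idx ((μ : Equiv.Perm GolayPt) (pt lineO))
    have hb24 : b < 24 := idx_lt _
    obtain ⟨hv, hm⟩ := validT_of_pointwise (T := candT b) (μ : Equiv.Perm GolayPt) (by
      intro i hi
      have hlt : ∀ (w : List ℕ) (z : ℕ), z < 24 →
          w.foldl (fun z k => app (lineS.getD k idN) z) z < 24 := by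
        intro w
        induction w with
        | nil => intro z hz; exact hz
        | cons k w ih => intro z hz; exact ih _ ((validT_bijective (hval k)).2 z hz)
      rw [candT, app_mkTbl hi (fun j _ => (hlt _ _ hb24).trans (by norm_num))]
      have := hfold (lineW.getD i []) lineO (by decide +kernel)
      rw [hw i hi] at this
      exact this.symm)
    rcases hb b hb24 with (h | h) | ⟨s, hs, h⟩
    · apply Subtype.ext
      rw [← hm, mkPerm_eq_of_tblEq hv idTbl_spec.1 h, idTbl_spec.2, Subgroup.coe_one]
    · rw [(inM24_iff hv).2 (hm ▸ μ.2)] at h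
      exact absurd h (by simp)
    · exfalso
      obtain ⟨k, hk, rfl⟩ := List.getElem_of_mem hs
      have hsv := hval k
      rw [List.getD_eq_getElem _ _ hk] at hsv
      have hc := hcomm' k
      rw [List.getD_eq_getElem _ _ hk, ← hm, ← (tblMul_spec hv hsv).2,
        ← (tblMul_spec hsv hv).2] at hc
      have ht : tblEq (tblMul (candT b) lineS[k]) (tblMul lineS[k] (candT b)) = true := by
        simp only [tblEq, List.all_eq_true, List.mem_range, beq_iff_eq]
        intro i hi
        rw [← idx_pt i hi, ← idx_mkPerm (tblMul_spec hv hsv).1,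
          ← idx_mkPerm (tblMul_spec hsv hv).1, hc]
      rw [ht] at h
      exact Bool.noConfusion h
  rw [← hμ, hone, map_one]

end Cfsg.Agent.H56.J4.E
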