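import Mathlib
import Cfsg.Agent.H56.J4.Engine

/-!
Equalities of words in letters of order two from relators, by a logged coset enumeration.
-/

set_option autoImplicit false

namespace Cfsg.Agent.H56.J4.E

/-- packed fact: first coset, second coset, letter (`255`: equality of cosets) -/
noncomputable def tFact (tb : List ℕ) (k : ℕ) : ℕ := lookW 48 tb k

/-- one step of the enumeration -/
structure TSt where
  start : ℕ
  rel : ℕ
  na : ℕ
  A : List ℕ
  B : List ℕ

/-- follow moves -/
noncomputable def tWalk (tb : List ℕ) (cur : ℕ) :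
    List ℕ → ℕ → List ℕ → (ℕ → Bool) → Bool
  | [], i, w, k => w.isEmpty && k i
  | mv :: ms, i, w, k =>
    Nat.blt (mv / 2) cur && frc (tFact tb (mv / 2)) fun v =>
      frc (bif Nat.beq (mv % 2) 0 then v &&& 65535 else (v >>> 16) &&& 65535) fun a =>
      frc (bif Nat.beq (mv % 2) 0 then (v >>> 16) &&& 65535 else v &&& 65535) fun b =>
        Nat.beq a i &&
          bif Nat.beq (v >>> 32) 255 then tWalk tb cur ms b w k
          else
            match w with
            | [] => false
            | l :: w' => Nat.beq l (v >>> 32) && tWalk tb cur ms b w' k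

/-- check a step -/
noncomputable def tStep (tb : List ℕ) (R : List (List ℕ)) (cur : ℕ) (s : TSt) : Bool :=
  frc (tFact tb cur) fun v =>
    tWalk tb cur s.A s.start ((R.getD s.rel []).take s.na) fun a =>
      Nat.beq a (v &&& 65535) &&
        bif Nat.beq (v >>> 32) 255 then
          tWalk tb cur s.B s.start ((R.getD s.rel []).drop s.na).reverse fun b =>
            Nat.beq b ((v >>> 16) &&& 65535)
        else
          match (R.getD s.rel []).drop s.na with
          | [] => false
          | l :: post => Nat.beq l (v >>> 32) &&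
              tWalk tb cur s.B s.start post.reverse fun b => Nat.beq b ((v >>> 16) &&& 65535)

/-- check consecutive steps -/
noncomputable def tRun (tb : List ℕ) (R : List (List ℕ)) : ℕ → List TSt → Bool
  | _, [] => true
  | cur, s :: l => tStep tb R cur s && tRun tb R (cur + 1) l

/-- the definitions form a tree -/
noncomputable def tDefs (tb : List ℕ) : ℕ → Bool
  | 0 => true
  | k + 1 => tDefs tb k && frc (tFact tb k) fun v =>
      Nat.beq ((v >>> 16) &&& 65535) (k + 1) && Nat.ble (v &&& 65535) k &&
        !(Nat.beq (v >>> 32) 255)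

/-- the complete check: words of each query lead to one coset -/
noncomputable def tCert (tb : List ℕ) (R : List (List ℕ)) (nd : ℕ) (steps : List TSt)
    (qs : List (List ℕ × List ℕ × List ℕ × List ℕ)) : Bool :=
  tDefs tb nd && tRun tb R nd steps &&
    qs.all fun q => tWalk tb (nd + steps.length) q.2.2.1 0 q.1 fun a =>
      tWalk tb (nd + steps.length) q.2.2.2 0 q.2.1 fun b => Nat.beq a b

section Sem

variable {G : Type*} [Group G] (e : ℕ → G)

/-- value of a word -/
def tVal (w : List ℕ) : G := (w.map e).prod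

/-- meaning of a fact -/
def TSem (w : ℕ → G) (v : ℕ) : Prop :=
  if v >>> 32 = 255 then w (v &&& 65535) = w ((v >>> 16) &&& 65535)
  else w (v &&& 65535) * e (v >>> 32) = w ((v >>> 16) &&& 65535)

variable {e}

theorem tVal_reverse (he : ∀ l, e l * e l = 1) :
    ∀ w : List ℕ, tVal e w.reverse = (tVal e w)⁻¹ := by
  intro w
  induction w with
  | nil => simp [tVal]
  | cons a w ih =>
    simp only [tVal] at ih ⊢
    rw [List.reverse_cons, List.map_append, List.prod_append, ih]
    simp only [List.map_cons, List.map_nil, List.prod_cons, List.prod_nil, mul_one, mul_inv_rev]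
    rw [← eq_inv_of_mul_eq_one_left (he a)]

theorem tWalk_sound (he : ∀ l, e l * e l = 1) {w : ℕ → G} {tb : List ℕ} {cur : ℕ}
    (hF : ∀ k < cur, TSem e w (tFact tb k)) :
    ∀ (ms : List ℕ) (i : ℕ) (u : List ℕ) (k : ℕ → Bool), tWalk tb cur ms i u k = true →
      ∃ j, k j = true ∧ w i * tVal e u = w j := by
  intro ms
  induction ms with
  | nil =>
    intro i u k h
    simp only [tWalk, Bool.and_eq_true, List.isEmpty_iff] at h
    obtain ⟨rfl, h⟩ := h
    exact ⟨i, h, by simp [tVal]⟩
  | cons mv ms ih =>
    intro i u k h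
    simp only [tWalk, Bool.and_eq_true, Nat.blt_eq, frc_eq, Nat.beq_eq] at h
    obtain ⟨hlt, hai, h⟩ := h
    subst hai
    have hs := hF _ hlt
    generalize tFact tb (mv / 2) = v at h hs ⊢
    unfold TSem at hs
    cases hl : Nat.beq (v >>> 32) 255 with
    | true =>
      simp only [hl, cond_true] at h
      rw [if_pos (Nat.beq_eq.mp hl)] at hs
      obtain ⟨j, hj, hv⟩ := ih _ _ _ h
      refine ⟨j, hj, ?_⟩
      rw [← hv]
      cases Nat.beq (mv % 2) 0 <;> simp [hs]
    | false =>
      simp only [hl, cond_false] at h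
      rw [if_neg (fun he' => by rw [he'] at hl; exact Bool.noConfusion hl)] at hs
      cases u with
      | nil => simp at h
      | cons l u' =>
        simp only [Bool.and_eq_true, Nat.beq_eq] at h
        obtain ⟨rfl, h⟩ := h
        obtain ⟨j, hj, hv⟩ := ih _ _ _ h
        refine ⟨j, hj, ?_⟩
        rw [← hv, tVal, List.map_cons, List.prod_cons, ← mul_assoc]
        congr 1
        cases Nat.beq (mv % 2) 0
        · simp only [cond_false]
          rw [← hs, mul_assoc, he, mul_one]
        · simp only [cond_true]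
          exact hs

theorem tDefs_sound (tb : List ℕ) : ∀ n, tDefs tb n = true →
    ∃ w : ℕ → G, w 0 = 1 ∧ ∀ k < n, TSem e w (tFact tb k) := by
  have hle : ∀ n, tDefs tb n = true → ∀ k < n, ((tFact tb k) >>> 16) &&& 65535 = k + 1 ∧
      (tFact tb k) &&& 65535 ≤ k ∧ (tFact tb k) >>> 32 ≠ 255 := by
    intro n
    induction n with
    | zero => intro _ k hk; omega
    | succ n ih =>
      intro h k hk
      simp only [tDefs, Bool.and_eq_true, frc_eq, Nat.beq_eq, Nat.ble_eq,
        Bool.not_eq_true'] at h
      rcases Nat.lt_succ_iff_lt_or_eq.1 hk with hk | rfl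
      · exact ih h.1 k hk
      · exact ⟨h.2.1.1, h.2.1.2, fun he' => by rw [he'] at h; simp at h⟩
  intro n
  induction n with
  | zero => intro _; exact ⟨fun _ => 1, rfl, fun k hk => by omega⟩
  | succ n ih =>
    intro h
    have hd := hle _ h
    simp only [tDefs, Bool.and_eq_true] at h
    obtain ⟨w, hw0, hw⟩ := ih h.1
    obtain ⟨hb, ha, hl⟩ := hd n (Nat.lt_succ_self n)
    refine ⟨Function.update w (n + 1) (w (tFact tb n &&& 65535) * e (tFact tb n >>> 32)),
      by rw [Function.update_of_ne (by omega), hw0], fun k hk => ?_⟩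
    obtain ⟨hb', ha', hl'⟩ := hd k hk
    rcases Nat.lt_succ_iff_lt_or_eq.1 hk with hk' | rfl
    · have := hw k hk'
      unfold TSem at this ⊢
      rw [if_neg hl'] at this ⊢
      rw [hb'] at this ⊢
      rwa [Function.update_of_ne (by omega), Function.update_of_ne (by omega)]
    · unfold TSem
      rw [if_neg hl, hb, Function.update_self, Function.update_of_ne (by omega)]

theorem tStep_sound (he : ∀ l, e l * e l = 1) {w : ℕ → G} {tb : List ℕ} {R : List (List ℕ)}
    (hR : ∀ r ∈ R, tVal e r = 1) {cur : ℕ} (hF : ∀ k < cur, TSem e w (tFact tb k)) {s : TSt}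
    (h : tStep tb R cur s = true) : TSem e w (tFact tb cur) := by
  simp only [tStep, frc_eq] at h
  have hr : tVal e (R.getD s.rel []) = 1 := by
    rw [List.getD_eq_getElem?_getD]
    cases h' : R[s.rel]? with
    | none => simp [tVal]
    | some r => exact hR r (List.mem_of_getElem? h')
  generalize R.getD s.rel [] = r at h hr
  obtain ⟨a, h, hA⟩ := tWalk_sound he hF _ _ _ _ h
  simp only [Bool.and_eq_true, Nat.beq_eq] at h
  obtain ⟨rfl, h⟩ := h
  have hs : tVal e (r.take s.na) * tVal e (r.drop s.na) = 1 := by
    rw [← hr, tVal, tVal, tVal, ← List.prod_append, ← List.map_append, List.take_append_drop]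
  generalize tFact tb cur = v at h hA ⊢
  unfold TSem
  cases hl : Nat.beq (v >>> 32) 255 with
  | true =>
    simp only [hl, cond_true] at h
    obtain ⟨b, hb, hB⟩ := tWalk_sound he hF _ _ _ _ h
    rw [Nat.beq_eq] at hb
    subst hb
    rw [if_pos (Nat.beq_eq.mp hl), ← hA, ← hB, tVal_reverse he, ← eq_inv_of_mul_eq_one_left hs]
  | false =>
    simp only [hl, cond_false] at h
    cases hd : r.drop s.na with
    | nil => simp [hd] at h
    | cons l post =>
      simp only [hd, Bool.and_eq_true, Nat.beq_eq] at h
      obtain ⟨rfl, h⟩ := h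
      obtain ⟨b, hb, hB⟩ := tWalk_sound he hF _ _ _ _ h
      rw [Nat.beq_eq] at hb
      subst hb
      rw [if_neg (fun he' => by rw [he'] at hl; exact Bool.noConfusion hl), ← hA, ← hB,
        tVal_reverse he, mul_assoc]
      congr 1
      rw [hd] at hs
      simp only [tVal, List.map_cons, List.prod_cons] at hs ⊢
      exact eq_inv_of_mul_eq_one_left (by rw [mul_assoc]; exact hs)

theorem tRun_sound (he : ∀ l, e l * e l = 1) {w : ℕ → G} {tb : List ℕ} {R : List (List ℕ)}
    (hR : ∀ r ∈ R, tVal e r = 1) : ∀ (l : List TSt) (cur : ℕ),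
      (∀ k < cur, TSem e w (tFact tb k)) → tRun tb R cur l = true →
      ∀ k < cur + l.length, TSem e w (tFact tb k) := by
  intro l
  induction l with
  | nil => intro cur hF _ k hk; exact hF k (by simpa using hk)
  | cons s l ih =>
    intro cur hF h k hk
    simp only [tRun, Bool.and_eq_true] at h
    refine ih (cur + 1) (fun j hj => ?_) h.2 k (by rw [List.length_cons] at hk; omega)
    rcases Nat.lt_succ_iff_lt_or_eq.1 hj with hj | rfl
    · exact hF j hj
    · exact tStep_sound he hR hF h.1

/-- every query is an equality in the group -/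
theorem tCert_sound (he : ∀ l, e l * e l = 1) {tb : List ℕ} {R : List (List ℕ)}
    (hR : ∀ r ∈ R, tVal e r = 1) {nd : ℕ} {steps : List TSt}
    {qs : List (List ℕ × List ℕ × List ℕ × List ℕ)} (h : tCert tb R nd steps qs = true) :
    ∀ q ∈ qs, tVal e q.1 = tVal e q.2.1 := by
  simp only [tCert, Bool.and_eq_true, List.all_eq_true] at h
  obtain ⟨⟨hd, hr⟩, hq⟩ := h
  obtain ⟨w, hw0, hw⟩ := tDefs_sound (e := e) tb nd hd
  have hF := tRun_sound he hR steps nd hw hr
  intro q hq'
  obtain ⟨a, ha, hA⟩ := tWalk_sound he hF _ _ _ _ (hq q hq')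
  obtain ⟨b, hb, hB⟩ := tWalk_sound he hF _ _ _ _ ha
  rw [Nat.beq_eq] at hb
  subst hb
  rw [hw0, one_mul] at hA hB
  rw [hA, hB]

end Sem

end Cfsg.Agent.H56.J4.E
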